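import Groth.Prelude.Def_W4c4lgringredgrpLG
import Mathlib.LinearAlgebra.SymmetricAlgebra.Basic
import Mathlib.LinearAlgebra.Dual.Defs
import Mathlib.AlgebraicGeometry.Scheme
import Mathlib.RingTheory.Spectrum.Prime.Topology
import Mathlib.RingTheory.Finiteness.Projective
import Mathlib.Algebra.MvPolynomial.Funext

/-!
# Points of open subsets of vector bundles over LG-rings
-/

set_option autoImplicit false
universe u

open AlgebraicGeometry MvPolynomial

namespace Groth.Agent.LGPt28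

variable {R : Type u} [CommRing R]

theorem exists_eq_zeroLocus_compl {T : Type u} [CommRing T] (U : (Spec (CommRingCat.of T)).Opens)
    (hU : IsCompact (U : Set ↥(Spec (CommRingCat.of T)))) :
    ∃ (r : ℕ) (f : Fin r → T), ∀ q : PrimeSpectrum T, q ∈ (U : Set ↥(Spec (CommRingCat.of T))) ↔
      ∃ i, f i ∉ q.asIdeal := by
  let W : Set (PrimeSpectrum T) := (U : Set ↥(Spec (CommRingCat.of T)))
  obtain ⟨I, hI, he⟩ := PrimeSpectrum.isCompact_isOpen_iff_ideal.mp
    (⟨hU, U.isOpen⟩ : IsCompact W ∧ IsOpen W)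
  obtain ⟨r, f, hf⟩ := Submodule.fg_iff_exists_fin_generating_family.mp hI
  refine ⟨r, f, fun q => ?_⟩
  have : q ∈ W ↔ ¬ I ≤ q.asIdeal := by
    rw [← he]; rfl
  refine this.trans ?_
  rw [← hf, Ideal.span_le, Set.range_subset_iff, not_forall]
  rfl

theorem range_subset_iff {T S : Type u} [CommRing T] [CommRing S] (φ : T →+* S)
    (U : (Spec (CommRingCat.of T)).Opens) {r : ℕ} (f : Fin r → T)
    (hf : ∀ q : PrimeSpectrum T, q ∈ (U : Set ↥(Spec (CommRingCat.of T))) ↔ ∃ i, f i ∉ q.asIdeal) :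
    Set.range (Spec.map (CommRingCat.ofHom φ)).base ⊆ (U : Set ↥(Spec (CommRingCat.of T))) ↔
      Ideal.span (Set.range fun i => φ (f i)) = ⊤ := by
  constructor
  · intro h
    by_contra hne
    obtain ⟨P, hP, hle⟩ := Ideal.exists_le_maximal _ hne
    obtain ⟨i, hi⟩ := (hf _).mp (h ⟨(⟨P, hP.isPrime⟩ : PrimeSpectrum S), rfl⟩)
    exact hi (hle (Ideal.subset_span ⟨i, rfl⟩))
  · rintro h _ ⟨(q : PrimeSpectrum S), rfl⟩
    refine (hf _).mpr ?_
    by_contra hq
    push Not at hq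
    exact q.isPrime.ne_top (top_le_iff.mp (h ▸ Ideal.span_le.mpr (by rintro _ ⟨i, rfl⟩; exact hq i)))

theorem exists_point (hR : LGRing.IsLGRing R) {n r : ℕ} (f : Fin r → MvPolynomial (Fin n) R)
    (h : ∀ (m : Ideal R) [m.IsMaximal], ∃ (x : Fin n → R ⧸ m) (i : Fin r),
      eval₂Hom (Ideal.Quotient.mk m) x (f i) ≠ 0) :
    ∃ x : Fin n → R, Ideal.span (Set.range fun i => eval x (f i)) = ⊤ := by
  classical
  let g : MvPolynomial (Fin (n + r)) R := ∑ i, rename (Fin.castAdd r) (f i) * X (Fin.natAdd n i)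
  obtain ⟨s, hs⟩ := hR (n + r) g (fun m hm => by
    letI := Ideal.Quotient.field m
    obtain ⟨x, i, hi⟩ := h m
    refine ⟨Fin.append x (fun j => if j = i then 1 else 0), IsUnit.mk0 _ ?_⟩
    simp only [g, map_sum, map_mul, aeval_rename, aeval_X, Fin.append_right,
      mul_ite, mul_one, mul_zero, Finset.sum_ite_eq', Finset.mem_univ, if_true]
    have : (Fin.append x (fun j => if j = i then (1 : R ⧸ m) else 0)) ∘ Fin.castAdd r = x :=
      funext fun j => Fin.append_left _ _ j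
    rw [this]
    exact hi)
  refine ⟨s ∘ Fin.castAdd r, (Ideal.eq_top_of_isUnit_mem _ ?_ hs)⟩
  simp only [g, map_sum, map_mul, aeval_rename, aeval_X]
  exact sum_mem fun i _ => Ideal.mul_mem_right _ _ (Ideal.subset_span ⟨i, rfl⟩)

theorem exists_ne_zero {T : Type u} [CommRing T] [Nontrivial T] {r : ℕ} {f : Fin r → T}
    (h : Ideal.span (Set.range f) = ⊤) : ∃ i, f i ≠ 0 := by
  by_contra hc
  push Not at hc
  have : Ideal.span (Set.range f) = ⊥ := Ideal.span_eq_bot.mpr (by rintro _ ⟨i, rfl⟩; exact hc i)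
  exact bot_ne_top (this.symm.trans h)

variable (M : Type u) [AddCommGroup M] [Module R M]

/-- Linear forms `ξ ↦ Σ ξ(v_j) X_j`. -/
noncomputable def psi {n : ℕ} (v : Fin n → M) :
    SymmetricAlgebra R (Module.Dual R M) →ₐ[R] MvPolynomial (Fin n) R :=
  SymmetricAlgebra.lift (∑ j, (Module.Dual.eval R M (v j)).smulRight (X j))

theorem eval₂_comp_psi {n : ℕ} (v : Fin n → M) {S : Type u} [CommRing S] [Algebra R S] (x : Fin n → S) :
    (aeval x).comp (psi (R := R) M v) =
      SymmetricAlgebra.lift (∑ j, (Module.Dual.eval R M (v j)).smulRight (x j)) := by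
  apply SymmetricAlgebra.algHom_ext
  ext ξ
  simp [psi, map_sum]

variable [Module.Finite R M] [Module.Projective R M]

theorem exists_frame : ∃ (n : ℕ) (v : Fin n → M) (p : Fin n → Module.Dual R M),
    ∀ ξ : Module.Dual R M, ∑ j, ξ (v j) • p j = ξ := by
  obtain ⟨n, π, ι, -, -, hπι⟩ := Module.Finite.exists_comp_eq_id_of_projective R M
  refine ⟨n, fun j => π (Pi.single j 1), fun j => LinearMap.proj j ∘ₗ ι, fun ξ => ?_⟩
  ext m
  conv_rhs => rw [show m = π (ι m) from (LinearMap.congr_fun hπι m).symm, pi_eq_sum_univ' (ι m)]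
  simp [mul_comm]

theorem exists_point_bundle_aux (hR : LGRing.IsLGRing R) {n : ℕ} (v : Fin n → M) {r : ℕ}
    (f : Fin r → SymmetricAlgebra R (Module.Dual R M))
    (h : ∀ (m : Ideal R) [m.IsMaximal], ∃ (x : Fin n → R ⧸ m) (i : Fin r),
      eval₂Hom (Ideal.Quotient.mk m) x (psi M v (f i)) ≠ 0) :
    ∃ φ : Module.Dual R M →ₗ[R] R,
      Ideal.span (Set.range fun i => (SymmetricAlgebra.lift φ).toRingHom (f i)) = ⊤ := by
  obtain ⟨x, hx⟩ := exists_point hR (fun i => psi M v (f i)) h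
  refine ⟨∑ j, (Module.Dual.eval R M (v j)).smulRight (x j), ?_⟩
  rw [← hx]
  congr 1
  congr 1
  funext i
  rw [← eval₂_comp_psi M v x]
  rfl

theorem exists_point_bundle (hR : LGRing.IsLGRing R) {r : ℕ}
    (f : Fin r → SymmetricAlgebra R (Module.Dual R M))
    (h : ∀ (m : Ideal R) [m.IsMaximal], ∃ φ : Module.Dual R M →ₗ[R] (R ⧸ m),
      ∃ i, SymmetricAlgebra.lift φ (f i) ≠ 0) :
    ∃ φ : Module.Dual R M →ₗ[R] R,
      Ideal.span (Set.range fun i => (SymmetricAlgebra.lift φ).toRingHom (f i)) = ⊤ := by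
  obtain ⟨n, v, p, hp⟩ := exists_frame (R := R) M
  refine exists_point_bundle_aux M hR v f fun m _ => ?_
  obtain ⟨φ, i, hi⟩ := h m
  refine ⟨fun j => φ (p j), i, ?_⟩
  have e : φ = ∑ j, (Module.Dual.eval R M (v j)).smulRight (φ (p j)) := by
    ext ξ
    conv_lhs => rw [← hp ξ, map_sum]
    simp
  rw [e, ← eval₂_comp_psi M v] at hi
  exact hi

theorem exists_point_dense (hR : LGRing.IsLGRing R) (hinf : ∀ (m : Ideal R) [m.IsMaximal], Infinite (R ⧸ m))
    {r : ℕ} (f : Fin r → SymmetricAlgebra R (Module.Dual R M))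
    (h : ∀ (m : Ideal R) [m.IsMaximal], ∃ i,
      f i ∉ m.map (algebraMap R (SymmetricAlgebra R (Module.Dual R M)))) :
    ∃ φ : Module.Dual R M →ₗ[R] R,
      Ideal.span (Set.range fun i => (SymmetricAlgebra.lift φ).toRingHom (f i)) = ⊤ := by
  obtain ⟨n, v, p, hp⟩ := exists_frame (R := R) M
  refine exists_point_bundle_aux M hR v f fun m _ => ?_
  obtain ⟨i, hi⟩ := h m
  letI := Ideal.Quotient.field m
  haveI := hinf m
  by_contra hc
  push Not at hc
  have h0 : MvPolynomial.map (Ideal.Quotient.mk m) (psi M v (f i)) = 0 :=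
    MvPolynomial.funext fun x => by rw [eval_map, map_zero]; exact hc x i
  let ρ : MvPolynomial (Fin n) R →ₐ[R] SymmetricAlgebra R (Module.Dual R M) :=
    aeval fun j => SymmetricAlgebra.ι R _ (p j)
  have hρ : ρ.comp (psi M v) = AlgHom.id R _ := by
    apply SymmetricAlgebra.algHom_ext
    ext ξ
    conv_rhs => rw [← hp ξ]
    simp [ρ, psi, map_sum, Algebra.smul_def]
  have h1 : psi M v (f i) ∈ m.map (C : R →+* MvPolynomial (Fin n) R) :=
    mem_map_C_iff.mpr fun d => by
      rw [← Ideal.Quotient.eq_zero_iff_mem, ← coeff_map, h0, coeff_zero]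
  have h2 := Ideal.mem_map_of_mem ρ h1
  rw [← Ideal.map_coe ρ, Ideal.map_map, show ρ (psi M v (f i)) = f i from AlgHom.congr_fun hρ (f i)] at h2
  have he : (ρ : MvPolynomial (Fin n) R →+* SymmetricAlgebra R (Module.Dual R M)).comp C =
      algebraMap R _ := ρ.comp_algebraMap
  exact hi (he ▸ h2)

end Groth.Agent.LGPt28
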